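import Cfsg.Agent.Omega.Quasithin.Row.Psl_mg
import Cfsg.Agent.Mrg.Omega.Assembly
import Cfsg.Agent.Omega.Quasithin.Row.Chev_m3
import Cfsg.Agent.Omega.Quasithin.Row.MTwelve
import Cfsg.Agent.Omega.Quasithin.Row.J2_mg
import Cfsg.Agent.Omega.Quasithin.Row.He
import Cfsg.Agent.Omega.Quasithin.Row.McL_m3
import Cfsg.Agent.Omega.Quasithin.Row.Ly_mg
import Cfsg.Agent.Omega.Quasithin.Row.ON
import Cfsg.Agent.Mrg.Omega.Quasithin.Row.E27
import Cfsg.Agent.Omega.Quasithin.Row.Ru
import Cfsg.Agent.S1696
import Cfsg.Agent.S1697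
import Cfsg.Agent.S1698
import Cfsg.Agent.S1699
import Cfsg.Agent.S1701
import Cfsg.Agent.S1704
import Cfsg.Agent.S1705
import Cfsg.Agent.Prune
set_option linter.all false
prune_inst 0x7f00000000000000000000000000000000000000000000000000000000000000000000000000000000000000000000000000000000000000000000000000000000000000000000000000000000000000003fffffffffffffffffffffffffffbeffbdffffffff
open scoped Cfsg.Agent.FastGrp

-- part: Omega/Quasithin/Row/Alt
section
/-!
# The row of the alternating groups in the table of S1731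

`A_n`, `n ≥ 9`, contains an elementary abelian subgroup of order 27: the translations of the three lines of
`Fin 3 × ZMod 3`.
-/

set_option autoImplicit false

namespace Cfsg.Agent.Omega.Quasithin

open Cfsg

namespace AltRow

/-- translate the `i`-th line by `v i` -/
def tr (v : Fin 3 → ZMod 3) : Equiv.Perm (Fin 3 × ZMod 3) where
  toFun x := (x.1, x.2 + v x.1)
  invFun x := (x.1, x.2 - v x.1)
  left_inv x := by simp
  right_inv x := by simp

/-- the homomorphism -/
def hom : Multiplicative (Fin 3 → ZMod 3) →* Equiv.Perm (Fin 3 × ZMod 3) where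
  toFun v := tr v.toAdd
  map_one' := by
    ext x <;> simp [tr]
  map_mul' v w := by
    refine Equiv.ext fun x => Prod.ext rfl ?_
    change x.2 + (v.toAdd x.1 + w.toAdd x.1) = (x.2 + w.toAdd x.1) + v.toAdd x.1
    ring

theorem hom_injective : Function.Injective hom := by
  rw [injective_iff_map_eq_one]
  intro v hv
  apply Multiplicative.toAdd.injective
  funext i
  have h1 := congrArg Prod.snd (DFunLike.congr_fun hv ((i, 0) : Fin 3 × ZMod 3))
  have h2 : (0 : ZMod 3) + v.toAdd i = 0 := h1
  rw [zero_add] at h2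
  exact h2

end AltRow

theorem row_alt : ∀ n : ℕ, 9 ≤ n → ¬ PRankLE 3 2 (alternatingGroup (Fin n)) := by
  intro n hn
  have h3 : ∀ v : Fin 3 → ZMod 3, 3 • v = 0 := by decide
  have hc : Fintype.card (Fin 3 × ZMod 3) ≤ Fintype.card (Fin n) := by
    simpa using hn
  obtain ⟨ι⟩ := Function.Embedding.nonempty_of_card_le hc
  let g : Multiplicative (Fin 3 → ZMod 3) →* Equiv.Perm (Fin n) :=
    (Equiv.Perm.viaEmbeddingHom ι).comp AltRow.hom
  have hg : Function.Injective g := (Equiv.Perm.viaEmbeddingHom_injective ι).comp AltRow.hom_injective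
  have hmem : ∀ v, g v ∈ alternatingGroup (Fin n) := by
    intro v
    have h4 : v ^ 4 = v := by
      have : v ^ 3 = 1 := h3 v.toAdd
      rw [pow_succ, this, one_mul]
    rw [Equiv.Perm.mem_alternatingGroup, ← h4, map_pow, map_pow]
    rcases Int.units_eq_one_or (Equiv.Perm.sign (g v)) with h | h <;> rw [h] <;> rfl
  refine not_prankLE_of_hom h3 (g.codRestrict (alternatingGroup (Fin n)) hmem) ?_ ?_
  · intro a b hab
    exact hg (congrArg Subtype.val hab)
  · rw [Nat.card_eq_fintype_card]
    simp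

end Cfsg.Agent.Omega.Quasithin
end

-- part: Omega/Quasithin/TableOf
section
/-!
# The table for S1731 (helper399)

`rows_of` : all rows, from the orders of the presented groups `Fi22`, `Fi23`, `Fi24'`, `ON`, `HN`, `B`, `M`
(`S1696`-`S1699`, `S1701`, `S1704`, `S1705`) and the row `Ru`.
-/

set_option autoImplicit false

namespace Cfsg.Agent.Omega.Quasithin

open Cfsg

universe u

/-- the orders of presented sporadic groups used in the table -/
structure Orders : Prop where
  fi22 : Cfsg.IsFi22 Spor.Fi22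
  fi23 : Cfsg.IsFi23 Spor.Fi23
  fi24 : Cfsg.IsFi24' Spor.Fi24'
  on : Cfsg.IsON Spor.ON
  hn : Cfsg.IsHN Spor.HN
  b : Cfsg.IsB Spor.BabyMonster
  m : Cfsg.IsM Spor.Monster

/-- **The table for S1731** from the orders and the row `Ru`. -/
theorem rows_of (h : Orders) (hru : EvenRow.{u} (fun X _ => Spor.IsoRu X)) : Rows.{u} where
  alt := row_alt
  psl := row_psl
  psp := row_psp
  psu := row_psu
  omegaOdd := Row.OmegaOdd.row_omegaOdd
  omegaPlus := Row.OmegaPlus.row_omegaPlus
  omegaMinus := Row.OmegaMinus.row_omegaMinus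
  chev := Row.Chev.row_chev
  twisted := Row.Chev.row_twisted
  ree := Row.Chev.row_ree
  m12 := fun G _ _ hG => M12.row_m12 G hG
  j2 := Row.J2.row_j2
  hs := Row.HS.row_hs
  he := fun G _ _ hG => He.row_he G hG
  ru := hru
  mcl := fun G _ _ hG => Row.McL.row_mcl G hG
  ly := fun G _ _ hG => Row.Ly.row_ly G hG
  on := fun G _ _ hG => Row.ON.row_on h.on G hG
  suz := fun G _ _ hG => Row.Suz.row_suz G hG
  co3 := fun G _ _ hG => Row.McL.row_co3 G hG
  co1 := fun G _ _ hG => Row.McL.row_co1 G hG
  fi22 := fun G _ _ hG => Row.Cox.row_fi22 h.fi22 G hG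
  fi23 := fun G _ _ hG => Row.Cox.row_fi23 h.fi23 G hG
  fi24 := fun G _ _ hG => Row.Cox.row_fi24' h.fi24 G hG
  hn := fun G _ _ hG => Row.HN.row_hn h.hn G hG
  b := fun G _ _ hG => Row.Cox.row_b h.b G hG
  m := fun G _ _ hG => Row.Cox.row_m h.m G hG

end Cfsg.Agent.Omega.Quasithin
end

-- part: Omega/Quasithin/Table
section
/-!
# The table for S1731 (helper399)
-/

set_option autoImplicit false

namespace Cfsg.Agent.Omega.Quasithin

universe u

/-- the orders -/
theorem orders : Orders where
  fi22 := S1696.result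
  fi23 := S1697.result
  fi24 := S1698.result
  on := S1699.result
  hn := S1701.result
  b := S1704.result
  m := S1705.result

/-- **The table for S1731.** -/
theorem rows : Rows.{u} := rows_of orders fun G _ _ hG => Ru.row_ru G hG

end Cfsg.Agent.Omega.Quasithin
end

-- part: StrQ/Main
section
/-!
# S1731 from K-properness, S1765 and the table of `Omega/Quasithin` (helper56)
-/

set_option autoImplicit false

namespace Cfsg.Agent.StrQ

open Cfsg Cfsg.Agent.Omega.Assembly Cfsg.Agent.Omega.Quasithin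

universe u

/-- **S1731** for a K-proper group, from S1765 and the table. -/
theorem main (hO : OddLit.{u}) (R : Rows.{u}) {G : Type u} [Group G] [Finite G] [IsSimpleGroup G]
    (hG : ¬ IsMulCommutative G) (hK : IsKProper G) (hq : ∀ p : ℕ, p.Prime → p ≠ 2 → Cfsg.PRankLE p 2 G)
    (hE : ¬ Cfsg.IsOfEvenCharacteristic G) :
    Nonempty (G ≃* alternatingGroup (Fin 7)) ∨ Cfsg.Spor.IsoJ1 G ∨
      ∃ p : ℕ, p.Prime ∧ 5 ≤ p ∧ ∃ (F : Type) (_ : Field F) (_ : Fintype F),
        ((Fintype.card F = p ∨ Fintype.card F = p ^ 2) ∧ Nonempty (G ≃* Matrix.ProjectiveSpecialLinearGroup (Fin 2) F)) ∨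
        (Fintype.card F = p ∧ Nonempty (G ≃* Matrix.ProjectiveSpecialLinearGroup (Fin 3) F)) ∨
        (Fintype.card F = p ^ 2 ∧ Nonempty (G ≃* Cfsg.PSU 3 F p)) := by
  have h2 : ¬ IsCharacteristicTwoType G := fun h => hE (Cfsg.Agent.Omega.Quasithin.evenChar_of_charTwoType h)
  have h3 : PRankLE 3 2 G := hq 3 Nat.prime_three (by norm_num)
  rcases hO G hG hK h2 with
      ⟨⟨p, hp, hp2, h⟩, hx2, hx3, hxu⟩ | ⟨n, hn, ⟨e⟩⟩ | h | h | h | h | h | h | h |
      h | h | h | h | h | h | h | h | h | h | h
  · right; right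
    obtain ⟨F, iF, iFt, h⟩ := R.lie hp hp2 h (hq p hp hp2)
    by_cases hp3 : p = 3
    · exfalso
      subst hp3
      rcases h with ⟨h, e⟩ | ⟨h, e⟩ | ⟨h, e⟩
      · apply hx2
        refine ⟨F, iF, iFt, ?_, e⟩
        rcases h with h | h
        · left
          rw [h]
          exact ⟨Nat.prime_three, Or.inl ⟨2, by norm_num⟩⟩
        · right
          rw [h]
          norm_num
      · exact hx3 ⟨F, iF, iFt, h, Or.inl e⟩
      · exact hxu ⟨F, iF, iFt, h, Or.inl e⟩
    · refine ⟨p, hp, ?_, F, iF, iFt, h⟩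
      have h4 : p ≠ 4 := by rintro rfl; exact absurd hp (by decide)
      have := hp.two_le
      omega
  · rcases hn with rfl | hn
    · exact Or.inl ⟨e⟩
    · exact absurd (Cfsg.Agent.Omega.Quasithin.prankLE_congr e h3) (R.alt n hn)
  · exact absurd (R.m12 G h) hE
  · exact Or.inr (Or.inl h)
  · exact absurd (R.j2 G h) hE
  · exact absurd h3 (R.mcl G h)
  · exact absurd h3 (R.ly G h)
  · exact absurd (R.hs G h) hE
  · exact absurd (R.he G h) hE
  · exact absurd h3 (R.on G h)
  · exact absurd h3 (R.suz G h)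
  · exact absurd (R.ru G h) hE
  · exact absurd h3 (R.co3 G h)
  · exact absurd h3 (R.co1 G h)
  · exact absurd h3 (R.fi22 G h)
  · exact absurd h3 (R.fi23 G h)
  · exact absurd h3 (R.fi24 G h)
  · exact absurd h3 (R.hn G h)
  · exact absurd h3 (R.b G h)
  · exact absurd h3 (R.m G h)

end Cfsg.Agent.StrQ
end

private theorem dce_1f2560b8fcd8 : _root_.True := by
  try have : _root_.True := by simp only [_root_.Cfsg.Agent.Omega.Quasithin.AltRow.tr.eq_1]
  exact _root_.True.intro
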